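import Groth.Agent.InvolNodeLib.Fibre
import Groth.Agent.S7925

/-! Power series in two variables, split along the axes. -/

set_option autoImplicit false
universe u

noncomputable section

namespace Groth.Agent.InvolNodeLib

open IsLocalRing

variable {k R : Type u} [Field k] [CommRing R] [Algebra k R]

/-- The axis `i` with constant coefficients. -/
def axis (R : Type u) [CommRing R] [Algebra k R] (i : Fin 2) : PowerSeries k →+* MvPowerSeries (Fin 2) R :=
  (MvPowerSeries.map (algebraMap k R)).comp
    (PowerSeries.substAlgHom (R := k) (PowerSeries.HasSubst.of_constantCoeff_zero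
      (MvPowerSeries.constantCoeff_X i : MvPowerSeries.constantCoeff (MvPowerSeries.X i : MvPowerSeries (Fin 2) k) = 0))).toRingHom

theorem coeff_axis (i : Fin 2) (f : PowerSeries k) (e : Fin 2 →₀ ℕ) :
    MvPowerSeries.coeff e (axis R i f) =
      algebraMap k R (if e = Finsupp.single i (e i) then PowerSeries.coeff (e i) f else 0) := by
  classical
  show MvPowerSeries.coeff e (MvPowerSeries.map (algebraMap k R) (PowerSeries.substAlgHom _ f)) = _
  rw [MvPowerSeries.coeff_map, PowerSeries.coe_substAlgHom, PowerSeries.coeff_subst_single]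

theorem axis_X (i : Fin 2) : axis (k := k) R i PowerSeries.X = MvPowerSeries.X i := by
  show MvPowerSeries.map (algebraMap k R) (PowerSeries.substAlgHom _ PowerSeries.X) = _
  rw [PowerSeries.substAlgHom_X, MvPowerSeries.map_X]

theorem axis_C (i : Fin 2) (c : k) : axis R i (PowerSeries.C c) = MvPowerSeries.C (algebraMap k R c) := by
  classical
  ext e
  rw [coeff_axis, MvPowerSeries.coeff_C, PowerSeries.coeff_C]
  by_cases he : e = 0
  · simp [he]
  · rw [if_neg he]
    split_ifs with h1 h2
    · exact absurd (by rw [h1, h2, Finsupp.single_zero]) he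
    · exact map_zero _
    · exact map_zero _

/-- A substitution `X ↦ W`, `W ≠ 0` without constant term, is injective. -/
theorem injective_of_X (φ : PowerSeries k →+* PowerSeries k) (hW : φ PowerSeries.X ≠ 0) : Function.Injective φ := by
  refine (injective_iff_map_eq_zero φ).2 fun f hf => by_contra fun hne => ?_
  obtain ⟨o, hfe⟩ := IsDiscreteValuationRing.associated_pow_irreducible hne PowerSeries.X_irreducible
  obtain ⟨v, hv⟩ := hfe.symm
  have h0 := congrArg φ hv
  rw [map_mul, map_pow, hf] at h0
  exact mul_ne_zero (pow_ne_zero _ hW) (v.isUnit.map φ).ne_zero h0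

variable [IsLocalRing R] [IsNoetherianRing R]

/-- The kernel of a map to the node sending the variables to branch parameters. -/
theorem mem_of_branches (ρ : R →+* k) (hρ : ∀ r, ρ r = 0 → r ∈ maximalIdeal R) (hρk : ∀ c, ρ (algebraMap k R c) = c)
    (B₀ B₁ : MvPowerSeries (Fin 2) R →+* PowerSeries k)
    (h00 : B₀ (MvPowerSeries.X 0) = 0) (h01 : B₀ (MvPowerSeries.X 1) ≠ 0)
    (h11 : B₁ (MvPowerSeries.X 1) = 0) (h10 : B₁ (MvPowerSeries.X 0) ≠ 0)
    (hB₀C : ∀ c, B₀ (MvPowerSeries.C (algebraMap k R c)) = PowerSeries.C c)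
    (hB₁C : ∀ c, B₁ (MvPowerSeries.C (algebraMap k R c)) = PowerSeries.C c)
    (hB₀m : ∀ r ∈ maximalIdeal R, B₀ (MvPowerSeries.C r) = 0) (hB₁m : ∀ r ∈ maximalIdeal R, B₁ (MvPowerSeries.C r) = 0)
    (x : MvPowerSeries (Fin 2) R) (hx0 : B₀ x = 0) (hx1 : B₁ x = 0) :
    x ∈ (maximalIdeal R).map (MvPowerSeries.C (σ := Fin 2) (R := R)) ⊔
      Ideal.span {MvPowerSeries.X 0 * MvPowerSeries.X 1} := by
  classical
  let a : Fin 2 → PowerSeries k := fun i => PowerSeries.mk fun n => ρ (MvPowerSeries.coeff (Finsupp.single i n) x)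
  let c := ρ (MvPowerSeries.coeff 0 x)
  set d := x - axis R 0 (a 0) - axis R 1 (a 1) + MvPowerSeries.C (algebraMap k R c) with hd
  let ee : Fin 2 →₀ ℕ := Finsupp.single 0 1 + Finsupp.single 1 1
  let g : MvPowerSeries (Fin 2) R := fun e => MvPowerSeries.coeff (e + ee) d
  have hee : MvPowerSeries.X (R := R) 0 * MvPowerSeries.X 1 = MvPowerSeries.monomial ee 1 := by
    simp [MvPowerSeries.X, ee, MvPowerSeries.monomial_mul_monomial]
  have hext : ∀ e : Fin 2 →₀ ℕ, e 1 = 0 → e = Finsupp.single 0 (e 0) := fun e h => by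
    ext j; fin_cases j <;> simp [h]
  have hext' : ∀ e : Fin 2 →₀ ℕ, e 0 = 0 → e = Finsupp.single 1 (e 1) := fun e h => by
    ext j; fin_cases j <;> simp [h]
  set I := (maximalIdeal R).map (MvPowerSeries.C (σ := Fin 2) (R := R)) ⊔
      Ideal.span {MvPowerSeries.X 0 * MvPowerSeries.X 1}
  have hdI : d ∈ I := by
    have h1 : d - MvPowerSeries.X 0 * MvPowerSeries.X 1 * g ∈ (maximalIdeal R).map (MvPowerSeries.C (σ := Fin 2) (R := R)) := by
      refine S7925.mem_map_C _ (maximalIdeal R).fg_of_isNoetherianRing _ fun e => hρ _ ?_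
      rw [map_sub (MvPowerSeries.coeff e), hee, MvPowerSeries.coeff_monomial_mul]
      split_ifs with hle
      · show ρ (_ - 1 * MvPowerSeries.coeff (e - ee + ee) d) = 0
        rw [tsub_add_cancel_of_le hle, one_mul, sub_self, map_zero]
      · have h' : e 0 = 0 ∨ e 1 = 0 := by
          by_contra hno
          push Not at hno
          refine hle fun j => ?_
          fin_cases j <;> simp [ee] <;> omega
        simp only [sub_zero, d, map_add, map_sub, coeff_axis, MvPowerSeries.coeff_C,
          apply_ite ρ, hρk, map_zero, a, c, PowerSeries.coeff_mk]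
        rcases h' with h0 | h0
        · rw [← hext' e h0]
          by_cases he : e = 0
          · subst he; simp
          · have : ¬ e = Finsupp.single 0 (e 0) := fun h => he (by rw [h, h0, Finsupp.single_zero])
            rw [if_neg this, if_neg he]; simp
        · rw [← hext e h0]
          by_cases he : e = 0
          · subst he; simp
          · have : ¬ e = Finsupp.single 1 (e 1) := fun h => he (by rw [h, h0, Finsupp.single_zero])
            rw [if_neg this, if_neg he]; simp
    rw [← sub_add_cancel d (MvPowerSeries.X 0 * MvPowerSeries.X 1 * g)]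
    exact add_mem (Ideal.mem_sup_left h1)
      (Ideal.mem_sup_right (Ideal.mem_span_singleton.2 (dvd_mul_right _ _)))
  have hBI : ∀ (B : MvPowerSeries (Fin 2) R →+* PowerSeries k),
      (∀ r ∈ maximalIdeal R, B (MvPowerSeries.C r) = 0) → B (MvPowerSeries.X 0 * MvPowerSeries.X 1) = 0 → B d = 0 :=
    fun B hm hX => (sup_le (Ideal.map_le_iff_le_comap.2 hm) ((Ideal.span_singleton_le_iff_mem _).2 hX) :
      I ≤ RingHom.ker B) hdI
  have hconst : ∀ i, PowerSeries.constantCoeff (a i) = c := fun i => by
    rw [← PowerSeries.coeff_zero_eq_constantCoeff_apply, PowerSeries.coeff_mk, Finsupp.single_zero]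
  have hkill : ∀ (B : MvPowerSeries (Fin 2) R →+* PowerSeries k) (i : Fin 2),
      (∀ c, B (MvPowerSeries.C (algebraMap k R c)) = PowerSeries.C c) → B (MvPowerSeries.X i) = 0 →
      B (axis R i (a i)) = PowerSeries.C c := fun B i hC hX => by
    rw [PowerSeries.eq_X_mul_shift_add_const (a i)]
    simp only [map_add, map_mul, axis_X, hX, zero_mul, zero_add, axis_C, hC, hconst]
  have ha1 : a 1 = 0 := by
    refine injective_of_X (B₀.comp (axis R 1)) (by simpa [axis_X] using h01) ?_
    have h := hBI B₀ hB₀m (by rw [map_mul, h00, zero_mul])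
    rw [hd, map_add, map_sub, map_sub, hx0, hkill B₀ 0 hB₀C h00, hB₀C] at h
    rw [map_zero]
    show B₀ (axis R 1 (a 1)) = 0
    linear_combination -h
  have ha0 : a 0 = 0 := by
    refine injective_of_X (B₁.comp (axis R 0)) (by simpa [axis_X] using h10) ?_
    have h := hBI B₁ hB₁m (by rw [map_mul, h11, mul_zero])
    rw [hd, map_add, map_sub, map_sub, hx1, hkill B₁ 1 hB₁C h11, hB₁C] at h
    rw [map_zero]
    show B₁ (axis R 0 (a 0)) = 0
    linear_combination -h
  have hc : c = 0 := by rw [← hconst 0, ha0, map_zero]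
  have : d = x := by rw [hd, ha0, ha1, hc]; simp
  exact this ▸ hdI

end Groth.Agent.InvolNodeLib
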