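import Groth.Agent.ArSingLib.Branch
import Groth.Agent.ArSingLib.ClassLow

/-! The two branches of a node, pulled back to a local algebra. -/

set_option autoImplicit false
universe u

noncomputable section

namespace Groth.Agent.InvolNodeLib

open IsLocalRing Groth.Agent.ArSingLib

variable {k : Type u} [Field k]

/-- `y - x`. -/
abbrev nu (k : Type u) [Field k] : ArSing.ring k 1 := ArSing.y k 1 - ArSing.x k 1

/-- `y + x`. -/
abbrev nv (k : Type u) [Field k] : ArSing.ring k 1 := ArSing.y k 1 + ArSing.x k 1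

theorem nu_mul_nv : nu k * nv k = 0 := by
  simp only [nu, nv]; linear_combination y_sq (k := k) 1

theorem two_ne_zero_ps (h2 : (2 : k) ≠ 0) : (2 : PowerSeries k) ≠ 0 := by
  rw [← map_ofNat (PowerSeries.C (R := k)) 2]
  exact fun h => h2 (PowerSeries.C_injective (h.trans (map_zero _).symm))

theorem brP_nu : brP (nu k) = 0 := by simp [nu]
theorem brQ_nv : brQ (nv k) = 0 := by simp [nv]
theorem brP_nv : brP (nv k) = 2 * PowerSeries.X := by simp [nv]; ring
theorem brQ_nu : brQ (nu k) = -(2 * PowerSeries.X) := by simp [nu]; ring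

theorem mem_nu_of_brP (h2 : (2 : k) ≠ 0) (z : ArSing.ring k 1) (hz : brP z = 0) : ∃ w, z = w * nu k := by
  have h0 : PowerSeries.constantCoeff (brQ z) = 0 := by rw [← br_const, hz, map_zero]
  obtain ⟨p, hp⟩ := PowerSeries.X_dvd_iff.2 h0
  let r : PowerSeries k := PowerSeries.C (-2 : k)⁻¹ * p
  obtain ⟨w, -, hw⟩ := exists_glue h2 (PowerSeries.C (PowerSeries.constantCoeff r)) r (by simp)
  refine ⟨w, br_injective h2 (by rw [map_mul, brP_nu, mul_zero, hz]) ?_⟩
  have hc : (-2 : PowerSeries k) * PowerSeries.C (-2 : k)⁻¹ = 1 := by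
    rw [show (-2 : PowerSeries k) = PowerSeries.C (-2 : k) by rw [map_neg, map_ofNat], ← map_mul,
      mul_inv_cancel₀ (neg_ne_zero.2 h2), map_one]
  rw [map_mul, brQ_nu, hw, hp]
  simp only [r]
  linear_combination (-PowerSeries.X * p) * hc

theorem mem_nv_of_brQ (h2 : (2 : k) ≠ 0) (z : ArSing.ring k 1) (hz : brQ z = 0) : ∃ w, z = w * nv k := by
  have h0 : PowerSeries.constantCoeff (brP z) = 0 := by rw [br_const, hz, map_zero]
  obtain ⟨p, hp⟩ := PowerSeries.X_dvd_iff.2 h0
  let r : PowerSeries k := PowerSeries.C (2 : k)⁻¹ * p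
  obtain ⟨w, hw, -⟩ := exists_glue h2 r (PowerSeries.C (PowerSeries.constantCoeff r)) (by simp)
  refine ⟨w, br_injective h2 ?_ (by rw [map_mul, brQ_nv, mul_zero, hz])⟩
  have hc : (2 : PowerSeries k) * PowerSeries.C (2 : k)⁻¹ = 1 := by
    rw [show (2 : PowerSeries k) = PowerSeries.C (2 : k) by rw [map_ofNat], ← map_mul, mul_inv_cancel₀ h2, map_one]
  rw [map_mul, brP_nv, hw, hp]
  simp only [r]
  linear_combination (-PowerSeries.X * p) * hc

theorem mem_span_of_const (h2 : (2 : k) ≠ 0) (z : ArSing.ring k 1)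
    (hz : PowerSeries.constantCoeff (brP z) = 0) : ∃ a b, z = a * nu k + b * nv k := by
  obtain ⟨p, hp⟩ := PowerSeries.X_dvd_iff.2 hz
  let r : PowerSeries k := PowerSeries.C (2 : k)⁻¹ * p
  obtain ⟨b, hb, -⟩ := exists_glue h2 r (PowerSeries.C (PowerSeries.constantCoeff r)) (by simp)
  have hc : (2 : PowerSeries k) * PowerSeries.C (2 : k)⁻¹ = 1 := by
    rw [show (2 : PowerSeries k) = PowerSeries.C (2 : k) by rw [map_ofNat], ← map_mul, mul_inv_cancel₀ h2, map_one]
  obtain ⟨a, ha⟩ := mem_nu_of_brP h2 (z - b * nv k) (by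
    rw [map_sub, map_mul, brP_nv, hb, hp, sub_eq_zero]
    simp only [r]
    linear_combination (-PowerSeries.X * p) * hc)
  exact ⟨a, b, by rw [← ha]; ring⟩

/-- A local algebra with a node as special fibre. -/
structure NodeFibre (k R S : Type u) [Field k] [CommRing R] [IsLocalRing R] [CommRing S] [Algebra R S]
    [Algebra k S] where
  /-- The reduction map. -/
  q : S →ₐ[k] ArSing.ring k 1
  surj : Function.Surjective q
  ker : ∀ s, q s = 0 ↔ s ∈ (maximalIdeal R).map (algebraMap R S)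

variable {R S : Type u} [CommRing R] [IsLocalRing R] [CommRing S] [IsLocalRing S] [Algebra R S] [Algebra k S]
  (D : NodeFibre k R S)

/-- The constant of an element. -/
def NodeFibre.cst : S →+* k := (PowerSeries.constantCoeff (R := k)).comp ((brP (k := k)).toRingHom.comp D.q.toRingHom)

theorem NodeFibre.cst_apply (s : S) : D.cst s = PowerSeries.constantCoeff (brP (k := k) (D.q s)) := rfl

theorem NodeFibre.cst_algebraMap (c : k) : D.cst (algebraMap k S c) = c := by
  rw [D.cst_apply, AlgHom.commutes, AlgHom.commutes]; simp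

theorem NodeFibre.cst_eq_zero (s : S) : D.cst s = 0 ↔ s ∈ maximalIdeal S := by
  have h : RingHom.ker D.cst = maximalIdeal S :=
    eq_maximalIdeal (RingHom.ker_isMaximal_of_surjective _ fun c => ⟨_, D.cst_algebraMap c⟩)
  rw [← RingHom.mem_ker, h]

include D in
theorem NodeFibre.map_le : (maximalIdeal R).map (algebraMap R S) ≤ maximalIdeal S := fun s hs => by
  rw [← D.cst_eq_zero, D.cst_apply, (D.ker s).2 hs, map_zero, map_zero]

theorem NodeFibre.maximal_le (h2 : (2 : k) ≠ 0) {u v : S} (hu : D.q u = nu k) (hv : D.q v = nv k) :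
    maximalIdeal S ≤ Ideal.span {u, v} ⊔ (maximalIdeal R).map (algebraMap R S) := by
  intro s hs
  obtain ⟨a, b, hab⟩ := mem_span_of_const h2 (D.q s) ((D.cst_apply s).symm.trans ((D.cst_eq_zero s).2 hs))
  obtain ⟨a', rfl⟩ := D.surj a
  obtain ⟨b', rfl⟩ := D.surj b
  rw [show s = (a' * u + b' * v) + (s - (a' * u + b' * v)) by ring]
  refine Submodule.add_mem_sup (Ideal.mem_span_pair.2 ⟨a', b', rfl⟩) ((D.ker _).1 ?_)
  rw [map_sub, map_add, map_mul, map_mul, hu, hv, hab, sub_self]

/-- An involution preserving the branches acts on a branch parameter by a sign. -/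
theorem NodeFibre.exists_eigen (h2 : (2 : k) ≠ 0) (σ : S →+* S) (hσ : ∀ s, σ (σ s) = s)
    (hσk : ∀ c, σ (algebraMap k S c) = algebraMap k S c)
    (hσI : ∀ s ∈ (maximalIdeal R).map (algebraMap R S), σ s ∈ (maximalIdeal R).map (algebraMap R S))
    (br : ArSing.ring k 1 →ₐ[k] PowerSeries k) (n : ArSing.ring k 1) (hn : n ≠ 0) (hbn : br n = 0)
    (hker : ∀ z, br z = 0 → ∃ w, z = w * n)
    (hP : ∀ s, br (D.q s) = 0 → br (D.q (σ s)) = 0) :
    ∃ (U : S) (ξ : k), ξ ^ 2 = 1 ∧ σ U = algebraMap k S ξ * U ∧ ∃ w, IsUnit w ∧ D.q U = D.q w * n := by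
  obtain ⟨u, hu⟩ := D.surj n
  obtain ⟨w, hw⟩ := hker (D.q (σ u)) (hP u (by rw [hu, hbn]))
  obtain ⟨α, rfl⟩ := D.surj w
  set I := (maximalIdeal R).map (algebraMap R S)
  have hi : σ u - α * u ∈ I := (D.ker _).1 (by rw [map_sub, map_mul, hu, hw, sub_self])
  have hcσ : ∀ s, D.cst (σ s) = D.cst s := fun s => by
    have h1 : s - algebraMap k S (D.cst s) ∈ maximalIdeal S := by
      rw [← D.cst_eq_zero, map_sub, D.cst_algebraMap, sub_self]
    have h3 : σ (s - algebraMap k S (D.cst s)) ∈ maximalIdeal S := fun hun => h1 (by simpa [hσ] using hun.map σ)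
    rwa [← D.cst_eq_zero, map_sub σ, hσk, map_sub, D.cst_algebraMap, sub_eq_zero] at h3
  have hαα : σ α * α - 1 ∈ maximalIdeal S := by
    intro hun
    have h1 : (σ α * α - 1) * u ∈ I := by
      have h4 := hσI _ hi
      rw [map_sub, map_mul, hσ] at h4
      have := add_mem (neg_mem h4) (neg_mem (I.mul_mem_left (σ α) hi))
      convert this using 1; ring
    exact hn (hu ▸ (D.ker u).2 ((Ideal.unit_mul_mem_iff_mem I hun).1 h1))
  have hξ : D.cst α ^ 2 = 1 := by
    rw [← D.cst_eq_zero, map_sub, map_mul, hcσ, map_one, sub_eq_zero] at hαα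
    rw [pow_two]; exact hαα
  set ξ := D.cst α
  let h : S := algebraMap k S 2⁻¹
  refine ⟨h * (u + algebraMap k S ξ * σ u), ξ, hξ, ?_, h * (1 + algebraMap k S ξ * α), ?_, ?_⟩
  · have hξ' : algebraMap k S ξ * algebraMap k S ξ = 1 := by rw [← map_mul, ← pow_two, hξ, map_one]
    simp only [h, map_mul, map_add, hσk, hσ]
    linear_combination (-(algebraMap k S 2⁻¹) * σ u) * hξ'
  · by_contra hun
    have := (D.cst_eq_zero _).2 hun
    rw [map_mul, map_add, map_one, map_mul, D.cst_algebraMap, D.cst_algebraMap, ← pow_two, hξ, one_add_one_eq_two,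
      inv_mul_cancel₀ h2] at this
    exact one_ne_zero this
  · simp only [h, map_mul, map_add, map_one, hu, hw]; ring

end Groth.Agent.InvolNodeLib
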