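import Groth.Agent.InvolNodeLib.Fibre
import Groth.Agent.InvolNodeLib.Axes
import Groth.Agent.NodeComplLib.Basic

/-! Equivariant normal form of a deformation of a node with an involution preserving the branches. -/

set_option autoImplicit false
universe u

noncomputable section

namespace Groth.Agent.InvolNodeLib

open IsLocalRing Groth.Agent.ArSingLib

variable {k R S : Type u} [Field k] [CommRing R] [IsLocalRing R] [CommRing S] [IsLocalRing S] [Algebra k R]
  [Algebra R S] [Algebra k S] [IsScalarTower k R S]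

/-- One step of the approximation. -/
theorem exists_step (h2 : (2 : k) ≠ 0) (D : NodeFibre k R S) (σ : S →+* S)
    (hσσ : ∀ s, σ (σ s) = s) (hσR : ∀ r, σ (algebraMap R S r) = algebraMap R S r)
    (ξ ξ' : k) (hξ : ξ ^ 2 = 1) (hξ' : ξ' ^ 2 = 1) (U V : S) (hU : σ U = algebraMap k S ξ * U)
    (hV : σ V = algebraMap k S ξ' * V) (m : ℕ)
    (hgen : maximalIdeal S ≤ Ideal.span {U, V} ⊔ (maximalIdeal R).map (algebraMap R S))
    (t : R) (ht : algebraMap k R (ξ * ξ') * t = t)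
    (hw : U * V - algebraMap R S t ∈ (maximalIdeal R ^ (m + 1)).map (algebraMap R S)) :
    ∃ (c : R) (p q : S), c ∈ maximalIdeal R ^ (m + 1) ∧ algebraMap k R (ξ * ξ') * c = c ∧
      p ∈ (maximalIdeal R ^ (m + 1)).map (algebraMap R S) ∧ σ p = algebraMap k S ξ * p ∧
      q ∈ (maximalIdeal R ^ (m + 1)).map (algebraMap R S) ∧ σ q = algebraMap k S ξ' * q ∧
      (U - p) * (V - q) - algebraMap R S (t + c) ∈ (maximalIdeal R ^ (m + 1 + 1)).map (algebraMap R S) := by
  set J : ℕ → Ideal S := fun l => (maximalIdeal R ^ l).map (algebraMap R S)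
  have hσJ : ∀ l, ∀ s ∈ J l, σ s ∈ J l := fun l s hs => by
    have h := Ideal.mem_map_of_mem σ hs
    rwa [Ideal.map_map, show σ.comp (algebraMap R S) = algebraMap R S from RingHom.ext hσR] at h
  have hbase : ∀ w ∈ J (m + 1), ∃ c ∈ maximalIdeal R ^ (m + 1), ∃ p ∈ J (m + 1), ∃ q ∈ J (m + 1),
      w - (algebraMap R S c + U * q + V * p) ∈ J (m + 1 + 1) := by
    intro w hw
    have hw' : w ∈ ((maximalIdeal R ^ (m + 1)) • (⊤ : Submodule R S)) := by rw [Ideal.smul_top_eq_map]; exact hw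
    refine Submodule.smul_induction_on hw' (fun r hr s _ => ?_) (fun a b ha hb => ?_)
    · let a := algebraMap k R (D.cst s)
      have hsa : s - algebraMap R S a ∈ maximalIdeal S := by
        rw [← D.cst_eq_zero, map_sub, ← IsScalarTower.algebraMap_apply, D.cst_algebraMap, sub_self]
      obtain ⟨e₁, he₁, e₂, he₂, he⟩ := Submodule.mem_sup.mp (hgen hsa)
      obtain ⟨x, y, hxy⟩ := Ideal.mem_span_pair.mp he₁
      refine ⟨r * a, Ideal.mul_mem_right _ _ hr, algebraMap R S r * y, Ideal.mul_mem_right _ _ (Ideal.mem_map_of_mem _ hr),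
        algebraMap R S r * x, Ideal.mul_mem_right _ _ (Ideal.mem_map_of_mem _ hr), ?_⟩
      have heq : r • s - (algebraMap R S (r * a) + U * (algebraMap R S r * x) + V * (algebraMap R S r * y)) =
          algebraMap R S r * e₂ := by
        rw [Algebra.smul_def, map_mul]; linear_combination (-algebraMap R S r) * (he + hxy)
      rw [heq]
      simp only [J]
      rw [pow_succ (maximalIdeal R) (m + 1), Ideal.map_mul]
      exact Ideal.mul_mem_mul (Ideal.mem_map_of_mem _ hr) he₂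
    · obtain ⟨c, hc, p, hp, q, hq, h⟩ := ha
      obtain ⟨c', hc', p', hp', q', hq', h'⟩ := hb
      refine ⟨c + c', add_mem hc hc', p + p', add_mem hp hp', q + q', add_mem hq hq', ?_⟩
      convert add_mem h h' using 1
      rw [map_add]; ring
  obtain ⟨c, hc, p, hp, q, hq, hr⟩ := hbase _ hw
  set ε := algebraMap k S (ξ * ξ') with hε
  set K := algebraMap k S
  have hKσ : ∀ a, σ (K a) = K a := fun a => by
    simp only [K]; rw [IsScalarTower.algebraMap_apply k R S, hσR]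
  have hεR : ε = algebraMap R S (algebraMap k R (ξ * ξ')) := IsScalarTower.algebraMap_apply k R S _
  have ht' : ε * algebraMap R S t = algebraMap R S t := by rw [hεR, ← map_mul, ht]
  have hsq : K ξ * K ξ = 1 := by rw [← map_mul, ← pow_two, hξ, map_one]
  have hsq' : K ξ' * K ξ' = 1 := by rw [← map_mul, ← pow_two, hξ', map_one]
  have hεξ : ε = K ξ * K ξ' := map_mul _ _ _
  have hh : K 2⁻¹ * 2 = 1 := by
    rw [show (2 : S) = K 2 by rw [map_ofNat], ← map_mul, inv_mul_cancel₀ h2, map_one]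
  have hεε : ε * ε = 1 := by rw [hεξ]; linear_combination (K ξ' * K ξ') * hsq + hsq'
  let c' := algebraMap k R 2⁻¹ * (c + algebraMap k R (ξ * ξ') * c)
  let p' := K 2⁻¹ * (p + K ξ * σ p)
  let q' := K 2⁻¹ * (q + K ξ' * σ q)
  refine ⟨c', p', q', Ideal.mul_mem_left _ _ (add_mem hc (Ideal.mul_mem_left _ _ hc)), ?_,
    Ideal.mul_mem_left _ _ (add_mem hp (Ideal.mul_mem_left _ _ (hσJ _ _ hp))), ?_,
    Ideal.mul_mem_left _ _ (add_mem hq (Ideal.mul_mem_left _ _ (hσJ _ _ hq))), ?_, ?_⟩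
  · have : algebraMap k R (ξ * ξ') * algebraMap k R (ξ * ξ') = 1 := by
      rw [← map_mul, show ξ * ξ' * (ξ * ξ') = ξ ^ 2 * ξ' ^ 2 by ring, hξ, hξ', one_mul, map_one]
    simp only [c']
    linear_combination (algebraMap k R 2⁻¹ * c) * this
  · simp only [p', map_mul, map_add, hKσ, hσσ]
    linear_combination (-(K 2⁻¹) * σ p) * hsq
  · simp only [q', map_mul, map_add, hKσ, hσσ]
    linear_combination (-(K 2⁻¹) * σ q) * hsq'
  · set r := U * V - algebraMap R S t - (algebraMap R S c + U * q + V * p) with hrdef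
    have hσr : σ r = ε * (U * V) - algebraMap R S t - (algebraMap R S c + K ξ * U * σ q + K ξ' * V * σ p) := by
      simp only [hrdef, map_sub, map_add, map_mul, hσR, hU, hV, hεξ]; ring
    have hJ1 : ∀ l, J (l + 1) ≤ (maximalIdeal R).map (algebraMap R S) := fun l => Ideal.map_mono (Ideal.pow_le_self l.succ_ne_zero)
    have hkey : (U - p') * (V - q') - algebraMap R S (t + c') = K 2⁻¹ * (r + ε * σ r) + p' * q' := by
      have hc' : algebraMap R S c' = K 2⁻¹ * (algebraMap R S c + ε * algebraMap R S c) := by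
        simp only [c', map_mul, map_add, ← IsScalarTower.algebraMap_apply, hεR, K]
      rw [map_add, hc', hσr]
      simp only [p', q', hrdef]
      rw [hεξ] at hεε ht' ⊢
      linear_combination (-(U * V - algebraMap R S t)) * hh + (-(K 2⁻¹) * (U * V)) * hεε + (K 2⁻¹) * ht' +
        (K 2⁻¹ * K ξ' * U * σ q) * hsq + (K 2⁻¹ * K ξ * V * σ p) * hsq'
    rw [hkey]
    refine add_mem (Ideal.mul_mem_left _ _ (add_mem hr (Ideal.mul_mem_left _ _ (hσJ _ _ hr)))) ?_
    rw [pow_succ (maximalIdeal R) (m + 1), Ideal.map_mul]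
    exact Ideal.mul_mem_mul (Ideal.mul_mem_left _ _ (add_mem hp (Ideal.mul_mem_left _ _ (hσJ _ _ hp))))
      (hJ1 m (Ideal.mul_mem_left _ _ (add_mem hq (Ideal.mul_mem_left _ _ (hσJ _ _ hq)))))

variable [IsNoetherianRing R] [IsAdicComplete (maximalIdeal R) R] [IsNoetherianRing S]
  [IsAdicComplete (maximalIdeal S) S]

/-- The limit of the approximations. -/
theorem exists_exact (h2 : (2 : k) ≠ 0) (D : NodeFibre k R S) (σ : S →+* S)
    (hσσ : ∀ s, σ (σ s) = s) (hσR : ∀ r, σ (algebraMap R S r) = algebraMap R S r)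
    (ξ ξ' : k) (hξ : ξ ^ 2 = 1) (hξ' : ξ' ^ 2 = 1) (U₀ V₀ : S) (hU : σ U₀ = algebraMap k S ξ * U₀)
    (hV : σ V₀ = algebraMap k S ξ' * V₀)
    (hgen : maximalIdeal S ≤ Ideal.span {U₀, V₀} ⊔ (maximalIdeal R).map (algebraMap R S))
    (huv : U₀ * V₀ ∈ (maximalIdeal R).map (algebraMap R S)) :
    ∃ (U V : S) (t : R), t ∈ maximalIdeal R ∧ algebraMap k R (ξ * ξ') * t = t ∧
      σ U = algebraMap k S ξ * U ∧ σ V = algebraMap k S ξ' * V ∧
      U - U₀ ∈ (maximalIdeal R).map (algebraMap R S) ∧ V - V₀ ∈ (maximalIdeal R).map (algebraMap R S) ∧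
      U * V = algebraMap R S t := by
  classical
  set mR := maximalIdeal R
  set I := mR.map (algebraMap R S) with hI
  have hIm : I ≤ maximalIdeal S := D.map_le
  haveI : IsAdicComplete I S := AdicLemmas.isAdicComplete_of_le_of_fg hIm (Ideal.fg_of_isNoetherianRing _) S
  let P : ℕ → S × S × R → Prop := fun l s => σ s.1 = algebraMap k S ξ * s.1 ∧ σ s.2.1 = algebraMap k S ξ' * s.2.1 ∧
    s.1 - U₀ ∈ I ∧ s.2.1 - V₀ ∈ I ∧ s.2.2 ∈ mR ∧ algebraMap k R (ξ * ξ') * s.2.2 = s.2.2 ∧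
    s.1 * s.2.1 - algebraMap R S s.2.2 ∈ (mR ^ (l + 1)).map (algebraMap R S)
  have hnext : ∀ l (s : {s // P l s}), ∃ s' : {s // P (l + 1) s},
      s'.1.1 - s.1.1 ∈ I ^ (l + 1) ∧ s'.1.2.1 - s.1.2.1 ∈ I ^ (l + 1) ∧ s'.1.2.2 - s.1.2.2 ∈ mR ^ (l + 1) := by
    rintro l ⟨⟨U, V, t⟩, h1, h2', h3, h4, h5, h6, h7⟩
    have hgen' : maximalIdeal S ≤ Ideal.span {U, V} ⊔ I := by
      refine hgen.trans (sup_le (Ideal.span_le.2 ?_) le_sup_right)
      rintro z (rfl | rfl)
      · rw [show z = U - (U - z) by ring]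
        exact sub_mem (Ideal.mem_sup_left (Ideal.subset_span (by simp))) (Ideal.mem_sup_right h3)
      · rw [show z = V - (V - z) by ring]
        exact sub_mem (Ideal.mem_sup_left (Ideal.subset_span (by simp))) (Ideal.mem_sup_right h4)
    obtain ⟨c, p, q, hc, hc', hp, hp', hq, hq', hr⟩ :=
      exists_step h2 D σ hσσ hσR ξ ξ' hξ hξ' U V h1 h2' l hgen' t h6 h7
    have hmap : (mR ^ (l + 1)).map (algebraMap R S) = I ^ (l + 1) := Ideal.map_pow _ _ _
    refine ⟨⟨(U - p, V - q, t + c), ?_, ?_, ?_, ?_, ?_, ?_, hr⟩, ?_, ?_, ?_⟩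
    · show σ (U - p) = _
      rw [map_sub, h1, hp', mul_sub]
    · show σ (V - q) = _
      rw [map_sub, h2', hq', mul_sub]
    · show U - p - U₀ ∈ I
      rw [sub_right_comm]; exact sub_mem h3 (Ideal.pow_le_self l.succ_ne_zero (hmap ▸ hp))
    · show V - q - V₀ ∈ I
      rw [sub_right_comm]; exact sub_mem h4 (Ideal.pow_le_self l.succ_ne_zero (hmap ▸ hq))
    · exact add_mem h5 (Ideal.pow_le_self l.succ_ne_zero hc)
    · show algebraMap k R (ξ * ξ') * (t + c) = t + c
      rw [mul_add, h6, hc']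
    · show U - p - U ∈ _
      rw [sub_sub_cancel_left, ← hmap]; exact neg_mem hp
    · show V - q - V ∈ _
      rw [sub_sub_cancel_left, ← hmap]; exact neg_mem hq
    · show t + c - t ∈ _
      rwa [add_sub_cancel_left]
  choose nx hnx using hnext
  have h0 : P 0 (U₀, V₀, 0) := ⟨hU, hV, by simp, by simp, mR.zero_mem, mul_zero _, by simpa [hI] using huv⟩
  let s : ∀ l, {s // P l s} := fun l => Nat.rec ⟨_, h0⟩ (fun l s => nx l s) l
  obtain ⟨U, hUl⟩ := NodeComplLib.exists_limit I (fun l => (s l).1.1) fun l => (hnx l (s l)).1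
  obtain ⟨V, hVl⟩ := NodeComplLib.exists_limit I (fun l => (s l).1.2.1) fun l => (hnx l (s l)).2.1
  obtain ⟨t, htl⟩ := NodeComplLib.exists_limit mR (fun l => (s l).1.2.2) fun l => (hnx l (s l)).2.2
  have hσI : ∀ l, ∀ z ∈ I ^ l, σ z ∈ I ^ l := fun l z hz => by
    have h := Ideal.mem_map_of_mem σ hz
    rwa [Ideal.map_pow, hI, Ideal.map_map, show σ.comp (algebraMap R S) = algebraMap R S from RingHom.ext hσR] at h
  have heig : ∀ (W : S) (a : k) (f : ℕ → S), (∀ l, W - f l ∈ I ^ (l + 1)) → (∀ l, σ (f l) = algebraMap k S a * f l) →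
      σ W = algebraMap k S a * W := fun W a f hW hf => by
    refine NodeComplLib.eq_of_forall_sub_mem I _ _ fun l => ?_
    rw [show σ W - algebraMap k S a * W = σ (W - f l) - algebraMap k S a * (W - f l) by rw [map_sub, hf]; ring]
    exact sub_mem (hσI _ _ (hW l)) (Ideal.mul_mem_left _ _ (hW l))
  refine ⟨U, V, t, ?_, ?_, heig U ξ _ hUl fun l => (s l).2.1, heig V ξ' _ hVl fun l => (s l).2.2.1, ?_, ?_, ?_⟩
  · rw [← sub_add_cancel t (s 0).1.2.2]
    exact add_mem (by simpa using htl 0) (s 0).2.2.2.2.2.1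
  · refine NodeComplLib.eq_of_forall_sub_mem mR _ _ fun l => ?_
    rw [show algebraMap k R (ξ * ξ') * t - t = algebraMap k R (ξ * ξ') * (t - (s l).1.2.2) - (t - (s l).1.2.2) by
      rw [mul_sub, (s l).2.2.2.2.2.2.1]; ring]
    exact sub_mem (Ideal.mul_mem_left _ _ (htl l)) (htl l)
  · rw [← sub_add_sub_cancel U (s 0).1.1 U₀]
    exact add_mem (by simpa using hUl 0) (s 0).2.2.2.1
  · rw [← sub_add_sub_cancel V (s 0).1.2.1 V₀]
    exact add_mem (by simpa using hVl 0) (s 0).2.2.2.2.1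
  · refine NodeComplLib.eq_of_forall_sub_mem I _ _ fun l => ?_
    have h7 := (s l).2.2.2.2.2.2.2
    rw [Ideal.map_pow] at h7
    have ht' : algebraMap R S t - algebraMap R S (s l).1.2.2 ∈ I ^ (l + 1) := by
      rw [← map_sub, hI, ← Ideal.map_pow]; exact Ideal.mem_map_of_mem _ (htl l)
    rw [show U * V - algebraMap R S t = (U - (s l).1.1) * V + (s l).1.1 * (V - (s l).1.2.1) +
        ((s l).1.1 * (s l).1.2.1 - algebraMap R S (s l).1.2.2) - (algebraMap R S t - algebraMap R S (s l).1.2.2) by ring]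
    exact sub_mem (add_mem (add_mem (Ideal.mul_mem_right _ _ (hUl l)) (Ideal.mul_mem_left _ _ (hVl l))) h7) ht'

/-- The deformed node is the standard one. -/
theorem exists_algEquiv (h2 : (2 : k) ≠ 0) [Module.Flat R S] (D : NodeFibre k R S) (U V : S) (t : R)
    (ht : t ∈ maximalIdeal R) (hUV : U * V = algebraMap R S t)
    (hgen : maximalIdeal S ≤ Ideal.span {U, V} ⊔ (maximalIdeal R).map (algebraMap R S))
    (hU : ∃ w, IsUnit w ∧ D.q U = w * nu k) (hV : ∃ w, IsUnit w ∧ D.q V = w * nv k) :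
    ∃ f : S ≃ₐ[R] (MvPowerSeries (Fin 2) R ⧸
        Ideal.span {(MvPowerSeries.X 0 * MvPowerSeries.X 1 - MvPowerSeries.C t : MvPowerSeries (Fin 2) R)}),
      f U = Ideal.Quotient.mk _ (MvPowerSeries.X 0) ∧ f V = Ideal.Quotient.mk _ (MvPowerSeries.X 1) := by
  classical
  set mR := maximalIdeal R
  let P := MvPowerSeries (Fin 2) R
  set I := mR.map (algebraMap R S) with hI
  have hIm : I ≤ maximalIdeal S := D.map_le
  obtain ⟨w, hwu, hw⟩ := hU
  obtain ⟨w', hw'u, hw'⟩ := hV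
  have hUm : U ∈ maximalIdeal S := by
    rw [← D.cst_eq_zero, D.cst_apply, hw, map_mul brP, brP_nu, mul_zero, map_zero]
  have hVm : V ∈ maximalIdeal S := by
    rw [← D.cst_eq_zero, D.cst_apply, hw', map_mul brP, brP_nv, map_mul, map_mul]
    simp
  obtain ⟨ψ₀, hψ₀⟩ := ArtFunLib.ps_exists_lift (Λ := R) (σ := Fin 2) (maximalIdeal S) ![U, V] (by
    intro i; fin_cases i <;> simpa)
  have hX0 : ψ₀ (MvPowerSeries.X 0) = U := hψ₀ 0
  have hX1 : ψ₀ (MvPowerSeries.X 1) = V := hψ₀ 1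
  have hC : ∀ r, ψ₀ (MvPowerSeries.C r) = algebraMap R S r := fun r => by
    rw [← ψ₀.commutes r]; rfl
  let J : Ideal P := Ideal.span {MvPowerSeries.X 0 * MvPowerSeries.X 1 - MvPowerSeries.C t}
  have hJ : ∀ x ∈ J, ψ₀ x = 0 := fun x hx => by
    obtain ⟨y, rfl⟩ := Ideal.mem_span_singleton.1 hx
    rw [map_mul, map_sub, map_mul, hX0, hX1, hC, hUV, sub_self, zero_mul]
  let ψ : P ⧸ J →ₐ[R] S := Ideal.Quotient.liftₐ J ψ₀ hJ
  have hψ : ∀ x, ψ (Ideal.Quotient.mk J x) = ψ₀ x := fun x => rfl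
  obtain ⟨-, -, -, hPc⟩ := ArtFunLib.exists_psCRing (k := ResidueField R) (Λ := R) residue_surjective 2
  haveI : IsAdicComplete (maximalIdeal P) P := hPc
  let M : Ideal P := mR.map (MvPowerSeries.C (σ := Fin 2) (R := R)) ⊔
    Ideal.span {MvPowerSeries.X 0, MvPowerSeries.X 1}
  have hM : M ≤ maximalIdeal P := by
    refine le_trans ?_ (le_maximalIdeal (J := mR.comap
      (MvPowerSeries.constantCoeff (σ := Fin 2) (R := R))) (Ideal.comap_ne_top _ (maximalIdeal.isMaximal _).ne_top))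
    refine sup_le (Ideal.map_le_iff_le_comap.mpr fun a ha => ?_) (Ideal.span_le.mpr ?_)
    · rw [Ideal.mem_comap, Ideal.mem_comap, MvPowerSeries.constantCoeff_C]; exact ha
    · rintro _ (rfl | rfl) <;>
        · rw [SetLike.mem_coe, Ideal.mem_comap, MvPowerSeries.constantCoeff_X]; exact zero_mem _
  haveI : IsAdicComplete M P := AdicLemmas.isAdicComplete_of_le_of_fg hM (Ideal.fg_of_isNoetherianRing _) P
  have hMmap : M.map ψ₀.toRingHom = maximalIdeal S := by
    refine le_antisymm (Ideal.map_le_iff_le_comap.mpr (sup_le (Ideal.map_le_iff_le_comap.mpr fun a ha => ?_)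
      (Ideal.span_le.mpr ?_))) (hgen.trans (sup_le (Ideal.span_le.mpr ?_) (Ideal.map_le_iff_le_comap.mpr fun a ha => ?_)))
    · show ψ₀ (MvPowerSeries.C a) ∈ maximalIdeal S
      rw [hC]; exact hIm (Ideal.mem_map_of_mem _ ha)
    · rintro _ (rfl | rfl)
      · show ψ₀ _ ∈ maximalIdeal S; rw [hX0]; exact hUm
      · show ψ₀ _ ∈ maximalIdeal S; rw [hX1]; exact hVm
    · rintro _ (rfl | rfl)
      · rw [← hX0]; exact Ideal.mem_map_of_mem ψ₀.toRingHom (Ideal.mem_sup_right (Ideal.subset_span (by simp)))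
      · rw [← hX1]; exact Ideal.mem_map_of_mem ψ₀.toRingHom (Ideal.mem_sup_right (Ideal.subset_span (by simp)))
    · rw [Ideal.mem_comap, ← hC]
      exact Ideal.mem_map_of_mem ψ₀.toRingHom (Ideal.mem_sup_left (Ideal.mem_map_of_mem _ ha))
  haveI : IsHausdorff (M.map ψ₀.toRingHom) S := by rw [hMmap]; infer_instance
  have hψ₀s : Function.Surjective ψ₀ := by
    refine surjective_of_mk_map_comp_surjective (I := M) (f := ψ₀.toRingHom) fun z => ?_
    obtain ⟨y, rfl⟩ := Ideal.Quotient.mk_surjective z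
    refine ⟨MvPowerSeries.C (algebraMap k R (D.cst y)), Ideal.Quotient.eq.mpr ?_⟩
    rw [hMmap]
    show ψ₀ (MvPowerSeries.C (algebraMap k R (D.cst y))) - y ∈ maximalIdeal S
    rw [hC, ← IsScalarTower.algebraMap_apply, ← D.cst_eq_zero, map_sub, D.cst_algebraMap, sub_self]
  let ρ : R →+* k := D.cst.comp (algebraMap R S)
  have hρk : ∀ c, ρ (algebraMap k R c) = c := fun c => by
    show D.cst (algebraMap R S (algebraMap k R c)) = c
    rw [← IsScalarTower.algebraMap_apply, D.cst_algebraMap]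
  have hρ : ∀ r, ρ r = 0 → r ∈ maximalIdeal R := fun r hr => by
    by_contra hun
    exact (D.cst_eq_zero _).1 hr ((of_not_not hun : IsUnit r).map (algebraMap R S))
  have hT : mR.map (MvPowerSeries.C (σ := Fin 2) (R := R)) = mR.map (algebraMap R P) :=
    congrArg (fun f => mR.map f) (RingHom.ext fun r => (MvPowerSeries.algebraMap_apply (r := r)).symm)
  have hmapQ : (mR.map (algebraMap R P)).map (Ideal.Quotient.mk J) = mR.map (algebraMap R (P ⧸ J)) := by
    rw [Ideal.map_map]; rfl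
  have hinj : ∀ x : P ⧸ J, ψ x ∈ I → x ∈ mR.map (algebraMap R (P ⧸ J)) := by
    intro x hx
    obtain ⟨x, rfl⟩ := Ideal.Quotient.mk_surjective x
    let B₀ : P →+* PowerSeries k := (brP (k := k)).toRingHom.comp (D.q.toRingHom.comp ψ₀.toRingHom)
    let B₁ : P →+* PowerSeries k := (brQ (k := k)).toRingHom.comp (D.q.toRingHom.comp ψ₀.toRingHom)
    have hk : ∀ (br : ArSing.ring k 1 →ₐ[k] PowerSeries k) c, br (D.q (ψ₀ (MvPowerSeries.C (algebraMap k R c)))) =
        PowerSeries.C c := fun br c => by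
      rw [hC, ← IsScalarTower.algebraMap_apply, AlgHom.commutes, AlgHom.commutes]; rfl
    have hm : ∀ (br : ArSing.ring k 1 →ₐ[k] PowerSeries k), ∀ r ∈ maximalIdeal R, br (D.q (ψ₀ (MvPowerSeries.C r))) = 0 :=
      fun br r hr => by rw [hC, (D.ker _).2 (Ideal.mem_map_of_mem _ hr), map_zero]
    have h2' := two_ne_zero_ps (k := k) h2
    have hne := mul_ne_zero h2' (PowerSeries.X_ne_zero (R := k))
    have hx0 : D.q (ψ₀ x) = 0 := (D.ker _).2 hx
    have h := mem_of_branches ρ hρ hρk B₀ B₁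
      (show brP (D.q (ψ₀ (MvPowerSeries.X 0))) = 0 by rw [hX0, hw, map_mul, brP_nu, mul_zero])
      (show brP (D.q (ψ₀ (MvPowerSeries.X 1))) ≠ 0 by
        rw [hX1, hw', map_mul, brP_nv]; exact mul_ne_zero (hw'u.map brP).ne_zero hne)
      (show brQ (D.q (ψ₀ (MvPowerSeries.X 1))) = 0 by rw [hX1, hw', map_mul, brQ_nv, mul_zero])
      (show brQ (D.q (ψ₀ (MvPowerSeries.X 0))) ≠ 0 by
        rw [hX0, hw, map_mul, brQ_nu]; exact mul_ne_zero (hwu.map brQ).ne_zero (neg_ne_zero.2 hne))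
      (hk brP) (hk brQ) (hm brP) (hm brQ) x
      (show brP (D.q (ψ₀ x)) = 0 by rw [hx0, map_zero]) (show brQ (D.q (ψ₀ x)) = 0 by rw [hx0, map_zero])
    obtain ⟨a, ha, b, hb, rfl⟩ := Submodule.mem_sup.1 h
    rw [← hmapQ, map_add]
    refine add_mem (Ideal.mem_map_of_mem _ (hT ▸ ha)) ?_
    obtain ⟨y, rfl⟩ := Ideal.mem_span_singleton.1 hb
    have e : Ideal.Quotient.mk J (MvPowerSeries.X 0 * MvPowerSeries.X 1) = Ideal.Quotient.mk J (MvPowerSeries.C t) := by
      rw [Ideal.Quotient.eq]; exact Ideal.mem_span_singleton_self _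
    rw [map_mul, e]
    exact Ideal.mul_mem_right _ _ (Ideal.mem_map_of_mem _ (hT ▸ Ideal.mem_map_of_mem _ ht))
  haveI : Nontrivial (P ⧸ J) := RingHom.domain_nontrivial ψ.toRingHom
  haveI : IsLocalRing (P ⧸ J) := .of_surjective' _ Ideal.Quotient.mk_surjective
  have hle : mR.map (algebraMap R P) ≤ maximalIdeal P := hT ▸ le_sup_left.trans hM
  haveI : IsAdicComplete (mR.map (algebraMap R P)) P :=
    AdicLemmas.isAdicComplete_of_le_of_fg hle (Ideal.fg_of_isNoetherianRing _) P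
  haveI : IsPrecomplete (mR.map (algebraMap R (P ⧸ J))) (P ⧸ J) := by
    rw [← hmapQ]; exact S7925.isPrecomplete_quotient _ J
  haveI : IsAdicComplete I S := AdicLemmas.isAdicComplete_of_le_of_fg hIm (Ideal.fg_of_isNoetherianRing _) S
  have hleQ : mR.map (algebraMap R (P ⧸ J)) ≤ maximalIdeal (P ⧸ J) := by
    rw [← hmapQ]
    refine (Ideal.map_mono hle).trans (Ideal.map_le_iff_le_comap.2 fun z hz => ?_)
    haveI : IsLocalHom (Ideal.Quotient.mk J) := IsLocalHom.of_surjective _ Ideal.Quotient.mk_surjective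
    exact map_nonunit _ z hz
  have hb := CohenPresLib.bijective_of_flat (R := R) (S := P ⧸ J) (S' := S) mR hleQ ψ
    (fun y => by obtain ⟨x, rfl⟩ := hψ₀s y; exact ⟨Ideal.Quotient.mk J x, by rw [hψ, sub_self]; exact zero_mem _⟩) hinj
  refine ⟨(AlgEquiv.ofBijective ψ hb).symm, ?_, ?_⟩
  · rw [AlgEquiv.symm_apply_eq]; exact hX0.symm
  · rw [AlgEquiv.symm_apply_eq]; exact hX1.symm

end Groth.Agent.InvolNodeLib
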